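import Groth.Agent.TautSh.K67.ClsB
import Groth.Agent.TautSh.K554.DblSplit
import Groth.Agent.TautSh.K974.RangeEq
import Groth.Agent.TautSh.K888.HilbReg
import Groth.Agent.S1582
import Groth.Agent.S1618
import Groth.Agent.S1464
import Groth.Agent.FBase.K106.Dim

/-!
# The universal family of `X^[2]` off the diagonal is `X² - Δ` (helper67)

`main` : over the complement `W ⊆ Y = X^(2)` of the diagonal, `z₀ : q⁻¹ W ⟶ Z|_W` is an isomorphism compatible with the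
projections to `X` and to `Y`, the swap of `X²` acts over `X^[2]`, and `ρ|_W` is finite.
-/

set_option autoImplicit false
universe u

open CategoryTheory CategoryTheory.Limits AlgebraicGeometry TopologicalSpace

namespace K67.Cls

open Groth.Agent Groth.Agent.Picfga.HilbPull Groth.Agent.Picfga.HilbTriple K805.Taut K992.FibPow K992.BigDiag

variable (k : Type u) [Field k] [IsAlgClosed k] (X : Scheme.{u}) [X.Over (Spec (CommRingCat.of k))]
  [AlgebraicGeometry.IsIntegral X] [Smooth (X ↘ Spec (CommRingCat.of k))] [IsProper (X ↘ Spec (CommRingCat.of k))]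

omit [Smooth (X ↘ Spec (CommRingCat.of k))] in
theorem isIntegral_sq : IsIntegral (SymProd.fibPow (X ↘ Spec (CommRingCat.of k)) 2) := by
  let e := (K639.SymFacts.isPullback_two (X ↘ Spec (CommRingCat.of k))).isoPullback
  have hQint : IsIntegral (pullback (X ↘ Spec (CommRingCat.of k)) (X ↘ Spec (CommRingCat.of k))) :=
    S1582.result k X X (X ↘ Spec (CommRingCat.of k)) (X ↘ Spec (CommRingCat.of k))
  exact IsIntegral.of_isIso e.inv

omit [IsAlgClosed k] [IsIntegral X] [Smooth (X ↘ Spec (CommRingCat.of k))] in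
theorem dim_sq (hdim : topologicalKrullDim X = 2) :
    topologicalKrullDim (SymProd.fibPow (X ↘ Spec (CommRingCat.of k)) 2) = 4 := by
  let e := (K639.SymFacts.isPullback_two (X ↘ Spec (CommRingCat.of k))).isoPullback
  rw [S1464.topologicalKrullDim_eq_of_iso e, K106.Dim.topologicalKrullDim_pullback_eq_add, hdim]
  norm_cast

variable {Y : Scheme.{u}} (q : SymProd.fibPow (X ↘ Spec (CommRingCat.of k)) 2 ⟶ Y) (gY : Y ⟶ Spec (CommRingCat.of k))
  (hY : SymProd.IsSymProd (X ↘ Spec (CommRingCat.of k)) 2 q gY) (W : Y.Opens)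
  (hW : (W : Set Y) = (q '' bigDiag (X ↘ Spec (CommRingCat.of k)) 1)ᶜ)

include hW in
omit [IsAlgClosed k] [IsIntegral X] [Smooth (X ↘ Spec (CommRingCat.of k))] [IsProper (X ↘ Spec (CommRingCat.of k))] in
theorem hV : ∀ x ∈ q ⁻¹ᵁ W, x ∉ bigDiag (X ↘ Spec (CommRingCat.of k)) 1 := by
  intro x hx h
  have h1 : q x ∈ (W : Set Y) := hx
  rw [hW] at h1
  exact h1 ⟨x, h, rfl⟩

include hY hW in
omit [IsAlgClosed k] [IsIntegral X] [Smooth (X ↘ Spec (CommRingCat.of k))] in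
theorem nonempty_V (hdim : topologicalKrullDim X = 2) :
    ((q ⁻¹ᵁ W : (SymProd.fibPow (X ↘ Spec (CommRingCat.of k)) 2).Opens) :
      Set (SymProd.fibPow (X ↘ Spec (CommRingCat.of k)) 2)).Nonempty := by
  obtain ⟨hYp, hqf, hqs, h4⟩ := K639.SymFacts.quot_facts_gen _ 1 q gY hY
  by_contra hcon
  rw [Set.not_nonempty_iff_eq_empty] at hcon
  have h1 : (q '' bigDiag (X ↘ Spec (CommRingCat.of k)) 1) = Set.univ := by
    rw [← compl_inj_iff, Set.compl_univ, ← hW, Set.eq_empty_iff_forall_notMem]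
    intro y hy
    obtain ⟨x, rfl⟩ := hqs.surj y
    have : x ∈ ((q ⁻¹ᵁ W : (SymProd.fibPow (X ↘ Spec (CommRingCat.of k)) 2).Opens) :
      Set (SymProd.fibPow (X ↘ Spec (CommRingCat.of k)) 2)) := hy
    rw [hcon] at this
    exact this
  have h2 := K639.SymFacts.dim_disc_gen (X ↘ Spec (CommRingCat.of k)) q
  rw [h1, hdim] at h2
  have h3 : topologicalKrullDim (SymProd.fibPow (X ↘ Spec (CommRingCat.of k)) 2) ≤ topologicalKrullDim Y :=
    K618.TopDim.dim_le_of_fibres q q.continuous fun _ _ h he => K618.Sch.eq_of_specializes_of_eq q h he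
  have h5 : topologicalKrullDim Y ≤ topologicalKrullDim (Set.univ : Set Y) :=
    ((Homeomorph.Set.univ Y).isHomeomorph.topologicalKrullDim_eq _).symm.le
  rw [dim_sq k X hdim] at h3
  exact absurd (h3.trans (h5.trans h2)) (by decide)

include hY in
omit [IsAlgClosed k] [IsIntegral X] [Smooth (X ↘ Spec (CommRingCat.of k))] [IsProper (X ↘ Spec (CommRingCat.of k))] in
theorem exists_σ : ∃ σ : ((q ⁻¹ᵁ W : (SymProd.fibPow (X ↘ Spec (CommRingCat.of k)) 2).Opens) : Scheme.{u}) ⟶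
      ((q ⁻¹ᵁ W : (SymProd.fibPow (X ↘ Spec (CommRingCat.of k)) 2).Opens) : Scheme.{u}),
    σ ≫ (q ⁻¹ᵁ W).ι = (q ⁻¹ᵁ W).ι ≫ SymProd.permHom (X ↘ Spec (CommRingCat.of k)) 2 (Equiv.swap 0 1) := by
  refine ⟨IsOpenImmersion.lift (q ⁻¹ᵁ W).ι ((q ⁻¹ᵁ W).ι ≫ SymProd.permHom _ 2 (Equiv.swap 0 1)) ?_,
    IsOpenImmersion.lift_fac _ _ _⟩
  rw [Scheme.Opens.range_ι]
  rintro _ ⟨x, rfl⟩
  have h1 : SymProd.permHom (X ↘ Spec (CommRingCat.of k)) 2 (Equiv.swap 0 1) ≫ q = q :=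
    hY.isQuot.inv ⟨Equiv.swap 0 1⟩
  change q (((q ⁻¹ᵁ W).ι ≫ SymProd.permHom (X ↘ Spec (CommRingCat.of k)) 2 (Equiv.swap 0 1)) x) ∈ W
  rw [← Scheme.Hom.comp_apply, Category.assoc, h1]
  exact x.2

variable [CharZero k] (hdim : topologicalKrullDim X = 2) (Hl : X.Modules) (hHl : CohB1.IsAmple Hl) (Hs : Scheme.{u})
  [Hs.Over (Spec (CommRingCat.of k))] [IsProper (Hs ↘ Spec (CommRingCat.of k))]
  (Z : HilbD.Obj (X ↘ Spec (CommRingCat.of k)) 2 (CategoryTheory.Over.mk (Hs ↘ Spec (CommRingCat.of k))))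
  (hU : HilbD.IsUniversal (X ↘ Spec (CommRingCat.of k)) 2 (CategoryTheory.Over.mk (Hs ↘ Spec (CommRingCat.of k))) Z)
  (ρ : Hs ⟶ Y) (hρ : TautSh.IsHilbChow (X ↘ Spec (CommRingCat.of k)) 2
    (CategoryTheory.Over.mk (Hs ↘ Spec (CommRingCat.of k))) Z.1 q gY ρ)

include hdim hHl hU hY hρ hW in
/-- The whole structure. -/
theorem main_all : IsIntegral (TautSh.fam (X ↘ Spec (CommRingCat.of k))
      (CategoryTheory.Over.mk (Hs ↘ Spec (CommRingCat.of k))) Z.1) ∧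
    ∃ θ : ((q ⁻¹ᵁ W : (SymProd.fibPow (X ↘ Spec (CommRingCat.of k)) 2).Opens) : Scheme.{u}) ⟶
      (((TautSh.famToH (X ↘ Spec (CommRingCat.of k)) (CategoryTheory.Over.mk (Hs ↘ Spec (CommRingCat.of k))) Z.1 ≫ ρ)
        ⁻¹ᵁ W : (TautSh.fam (X ↘ Spec (CommRingCat.of k))
          (CategoryTheory.Over.mk (Hs ↘ Spec (CommRingCat.of k))) Z.1).Opens) : Scheme.{u}),
    IsIso θ ∧
    θ ≫ ((TautSh.famToH (X ↘ Spec (CommRingCat.of k)) (CategoryTheory.Over.mk (Hs ↘ Spec (CommRingCat.of k))) Z.1 ≫ ρ)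
        ⁻¹ᵁ W).ι ≫ TautSh.famToX (X ↘ Spec (CommRingCat.of k))
          (CategoryTheory.Over.mk (Hs ↘ Spec (CommRingCat.of k))) Z.1 =
      (q ⁻¹ᵁ W).ι ≫ pr (X ↘ Spec (CommRingCat.of k)) (0 : Fin 2) ∧
    θ ≫ ((TautSh.famToH (X ↘ Spec (CommRingCat.of k)) (CategoryTheory.Over.mk (Hs ↘ Spec (CommRingCat.of k))) Z.1 ≫ ρ)
        ⁻¹ᵁ W).ι ≫ TautSh.famToH (X ↘ Spec (CommRingCat.of k))
          (CategoryTheory.Over.mk (Hs ↘ Spec (CommRingCat.of k))) Z.1 ≫ ρ = (q ⁻¹ᵁ W).ι ≫ q ∧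
    (∃ σ : ((q ⁻¹ᵁ W : (SymProd.fibPow (X ↘ Spec (CommRingCat.of k)) 2).Opens) : Scheme.{u}) ⟶
        ((q ⁻¹ᵁ W : (SymProd.fibPow (X ↘ Spec (CommRingCat.of k)) 2).Opens) : Scheme.{u}),
      σ ≫ (q ⁻¹ᵁ W).ι = (q ⁻¹ᵁ W).ι ≫ SymProd.permHom (X ↘ Spec (CommRingCat.of k)) 2 (Equiv.swap 0 1) ∧
      σ ≫ θ ≫ ((TautSh.famToH (X ↘ Spec (CommRingCat.of k))
          (CategoryTheory.Over.mk (Hs ↘ Spec (CommRingCat.of k))) Z.1 ≫ ρ) ⁻¹ᵁ W).ι ≫
          TautSh.famToH (X ↘ Spec (CommRingCat.of k)) (CategoryTheory.Over.mk (Hs ↘ Spec (CommRingCat.of k))) Z.1 =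
        θ ≫ ((TautSh.famToH (X ↘ Spec (CommRingCat.of k))
          (CategoryTheory.Over.mk (Hs ↘ Spec (CommRingCat.of k))) Z.1 ≫ ρ) ⁻¹ᵁ W).ι ≫
          TautSh.famToH (X ↘ Spec (CommRingCat.of k)) (CategoryTheory.Over.mk (Hs ↘ Spec (CommRingCat.of k))) Z.1) ∧
    IsFinite (ρ ∣_ W) ∧
    Set.range (θ ≫ ((TautSh.famToH (X ↘ Spec (CommRingCat.of k))
          (CategoryTheory.Over.mk (Hs ↘ Spec (CommRingCat.of k))) Z.1 ≫ ρ) ⁻¹ᵁ W).ι ≫
          TautSh.famToH (X ↘ Spec (CommRingCat.of k)) (CategoryTheory.Over.mk (Hs ↘ Spec (CommRingCat.of k))) Z.1) =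
      ρ ⁻¹' (W : Set Y) := by
  obtain ⟨hYp, hqf, hqs, -⟩ := K639.SymFacts.quot_facts_gen _ 1 q gY hY
  obtain ⟨hHint, hHdim, -⟩ := K888.HilbReg.regular k X hdim Hl hHl Hs Z hU
  have hPint := isIntegral_sq k X
  have hVne := nonempty_V k X q gY hY W hW hdim
  have hV' := hV k X q W hW
  obtain ⟨σ, hσ⟩ := exists_σ k X q gY hY W
  obtain ⟨g, z, hz, hq, hg⟩ := exists_cls (X ↘ Spec (CommRingCat.of k)) Z (q ⁻¹ᵁ W) hV' hU
  obtain ⟨s1, s2, s3⟩ := swap_cls _ Z _ hV' g z hz hq hU hg σ hσ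
  have hmono : Mono (z 0) := mono_z _ Z _ hV' g z hz hq
  have hex := exists_z _ Z _ hV' g z hz hq hU hg σ hσ
  -- compatibility with the Hilbert–Chow morphism
  have hdisj : TautSh.DisjointSections (X ↘ Spec (CommRingCat.of k)) 2 (vs (X ↘ Spec (CommRingCat.of k)) (q ⁻¹ᵁ W))
      (xs _ (q ⁻¹ᵁ W)) (xs_comp _ (q ⁻¹ᵁ W)) := by
    have hdg := disjoint_graphs (X ↘ Spec (CommRingCat.of k)) (q ⁻¹ᵁ W) hV'
    intro a b hab
    fin_cases a <;> fin_cases b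
    · exact absurd rfl hab
    · exact (disjoint_range_iff _ _ _ _ _ _).2 hdg
    · exact (disjoint_range_iff _ _ _ _ _ _).2 hdg.symm
    · exact absurd rfl hab
  have hc : g.left ≫ ρ = (q ⁻¹ᵁ W).ι ≫ q := by
    have h1 := hρ.2 _ _ _ hdisj g hg
    rw [h1]
    congr 1
    refine hom_ext_pos _ fun i => ?_
    exact WidePullback.lift_π _ _ _ _ i
  -- the image of the classifying map
  have hlft : LocallyOfFiniteType (base (X ↘ Spec (CommRingCat.of k)) 2) :=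
    base_of _ @LocallyOfFiniteType (fun _ _ => inferInstance) inferInstance 2
  have hVdim : topologicalKrullDim (((q ⁻¹ᵁ W : (SymProd.fibPow (X ↘ Spec (CommRingCat.of k)) 2).Opens) :
      Scheme.{u})) = (4 : ℕ) := by
    let _ : (SymProd.fibPow (X ↘ Spec (CommRingCat.of k)) 2).Over (Spec (CommRingCat.of k)) := ⟨base _ 2⟩
    have h1 : LocallyOfFiniteType ((SymProd.fibPow (X ↘ Spec (CommRingCat.of k)) 2) ↘ Spec (CommRingCat.of k)) := hlft
    have h2 := S1618.result k (SymProd.fibPow (X ↘ Spec (CommRingCat.of k)) 2) (q ⁻¹ᵁ W) hVne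
    rw [dim_sq k X hdim] at h2
    exact h2
  obtain ⟨hr, hfin⟩ := K974.TautSh.range_eq k gY ρ hρ.1 q W g.left hc 4 hHdim hVdim
  have hVne' : Nonempty ((q ⁻¹ᵁ W : (SymProd.fibPow (X ↘ Spec (CommRingCat.of k)) 2).Opens) : Scheme.{u}) :=
    ⟨⟨_, hVne.some_mem⟩⟩
  have hVint : IsIntegral ((q ⁻¹ᵁ W : (SymProd.fibPow (X ↘ Spec (CommRingCat.of k)) 2).Opens) : Scheme.{u}) :=
    inferInstance
  -- the family
  obtain ⟨⟨hp1, hp2, hp3⟩, hrk⟩ := Z.2
  have hsub : (TautSh.famToH (X ↘ Spec (CommRingCat.of k)) (CategoryTheory.Over.mk (Hs ↘ Spec (CommRingCat.of k)))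
      Z.1) ⁻¹' (((ρ ⁻¹ᵁ W : Hs.Opens) : Set Hs)) ⊆ Set.range (z 0) := by
    intro ζ hζ
    have h1 : TautSh.famToH (X ↘ Spec (CommRingCat.of k)) (CategoryTheory.Over.mk (Hs ↘ Spec (CommRingCat.of k)))
        Z.1 ζ ∈ Set.range g.left := by
      rw [hr]
      exact hζ
    obtain ⟨t, ht⟩ := h1
    exact hex t ζ ht.symm
  have hfamint : IsIntegral (TautSh.fam (X ↘ Spec (CommRingCat.of k))
      (CategoryTheory.Over.mk (Hs ↘ Spec (CommRingCat.of k))) Z.1) := by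
    obtain ⟨t, ht⟩ : ∃ t, z 0 t ≠ z 1 t := by
      by_contra! hcon
      have hcomp : ∀ i, z i ≫ TautSh.famToH (X ↘ Spec (CommRingCat.of k))
          (CategoryTheory.Over.mk (Hs ↘ Spec (CommRingCat.of k))) Z.1 ≫ (Hs ↘ Spec (CommRingCat.of k)) =
          (q ⁻¹ᵁ W).ι ≫ base (X ↘ Spec (CommRingCat.of k)) 2 := by
        intro i
        rw [← Category.assoc]
        refine (congrArg (· ≫ (Hs ↘ Spec (CommRingCat.of k))) (hz i)).trans ?_
        exact Over.w g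
      have hredV : IsReduced (vs (X ↘ Spec (CommRingCat.of k)) (q ⁻¹ᵁ W)).left := by
        have : IsReduced ((q ⁻¹ᵁ W : (SymProd.fibPow (X ↘ Spec (CommRingCat.of k)) 2).Opens) : Scheme.{u}) :=
          inferInstance
        exact this
      have e : z 0 = z 1 := by
        have h1 : LocallyOfFiniteType (z 0 ≫ TautSh.famToH (X ↘ Spec (CommRingCat.of k))
          (CategoryTheory.Over.mk (Hs ↘ Spec (CommRingCat.of k))) Z.1 ≫ (Hs ↘ Spec (CommRingCat.of k))) := by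
          rw [hcomp]
          infer_instance
        exact ext_of_apply_eq (TautSh.famToH (X ↘ Spec (CommRingCat.of k))
          (CategoryTheory.Over.mk (Hs ↘ Spec (CommRingCat.of k))) Z.1 ≫ (Hs ↘ Spec (CommRingCat.of k))) Set.univ
          isOpen_univ.isLocallyClosed dense_univ (fun x _ _ => hcon x) ((hcomp 0).trans (hcomp 1).symm)
      exact (isEmpty_of_comp_eq _ Z _ hV' z hq (𝟙 _) (by rw [e])).false hVne'.some
    have h2 : IsUnit (2 : Γ(Hs, ⊤)) := by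
      have h3 : IsUnit (2 : k) := IsUnit.mk0 _ two_ne_zero
      have h4 := h3.map (Coh.toGlobal (Hs ↘ Spec (CommRingCat.of k)))
      rwa [map_ofNat] at h4
    have hHint' : IsIntegral (CategoryTheory.Over.mk (Hs ↘ Spec (CommRingCat.of k))).left := hHint
    have hirrV : IrreducibleSpace (vs (X ↘ Spec (CommRingCat.of k)) (q ⁻¹ᵁ W)).left := by
      have : IrreducibleSpace ((q ⁻¹ᵁ W : (SymProd.fibPow (X ↘ Spec (CommRingCat.of k)) 2).Opens) : Scheme.{u}) :=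
        inferInstance
      exact this
    refine K554.DblSplit.isIntegral_dbl (TautSh.famToH (X ↘ Spec (CommRingCat.of k))
      (CategoryTheory.Over.mk (Hs ↘ Spec (CommRingCat.of k))) Z.1) hrk h2 (z 0) (ρ ⁻¹ᵁ W) ?_ hsub (z 0 t) (z 1 t) ht ?_
    · refine ⟨g.left hVne'.some, ?_⟩
      have : g.left hVne'.some ∈ Set.range g.left := ⟨_, rfl⟩
      rw [hr] at this
      exact this
    · have h5 : (z 0 ≫ Picfga.HilbTriple.pi _ Z.1) t = (z 1 ≫ Picfga.HilbTriple.pi _ Z.1) t := by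
        rw [hz, hz]
      exact h5
  refine ⟨hfamint, ?_⟩
  have hzW : z 0 ≫ TautSh.famToH (X ↘ Spec (CommRingCat.of k))
      (CategoryTheory.Over.mk (Hs ↘ Spec (CommRingCat.of k))) Z.1 ≫ ρ = (q ⁻¹ᵁ W).ι ≫ q := by
    rw [← Category.assoc]
    exact (congrArg (· ≫ ρ) (hz 0)).trans hc
  have hrange : Set.range (z 0) ⊆ Set.range ((TautSh.famToH (X ↘ Spec (CommRingCat.of k))
      (CategoryTheory.Over.mk (Hs ↘ Spec (CommRingCat.of k))) Z.1 ≫ ρ) ⁻¹ᵁ W).ι := by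
    rw [Scheme.Opens.range_ι]
    rintro _ ⟨t, rfl⟩
    change ((TautSh.famToH (X ↘ Spec (CommRingCat.of k))
      (CategoryTheory.Over.mk (Hs ↘ Spec (CommRingCat.of k))) Z.1 ≫ ρ)) (z 0 t) ∈ W
    rw [← Scheme.Hom.comp_apply, hzW]
    exact t.2
  let θ := IsOpenImmersion.lift ((TautSh.famToH (X ↘ Spec (CommRingCat.of k))
      (CategoryTheory.Over.mk (Hs ↘ Spec (CommRingCat.of k))) Z.1 ≫ ρ) ⁻¹ᵁ W).ι (z 0) hrange
  have hθ : θ ≫ ((TautSh.famToH (X ↘ Spec (CommRingCat.of k))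
      (CategoryTheory.Over.mk (Hs ↘ Spec (CommRingCat.of k))) Z.1 ≫ ρ) ⁻¹ᵁ W).ι = z 0 := IsOpenImmersion.lift_fac _ _ _
  have hθH : θ ≫ ((TautSh.famToH (X ↘ Spec (CommRingCat.of k))
      (CategoryTheory.Over.mk (Hs ↘ Spec (CommRingCat.of k))) Z.1 ≫ ρ) ⁻¹ᵁ W).ι ≫
        TautSh.famToH (X ↘ Spec (CommRingCat.of k))
      (CategoryTheory.Over.mk (Hs ↘ Spec (CommRingCat.of k))) Z.1 = g.left := by
    rw [← Category.assoc, hθ]
    exact hz 0
  have hiso : IsIso θ := by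
    have hρp : IsProper ρ := by
      have : IsProper (ρ ≫ gY) := by
        have h1 : ρ ≫ gY = Hs ↘ Spec (CommRingCat.of k) := hρ.1
        rw [h1]
        infer_instance
      exact IsProper.of_comp ρ gY
    have h1 : θ ≫ ((TautSh.famToH (X ↘ Spec (CommRingCat.of k))
        (CategoryTheory.Over.mk (Hs ↘ Spec (CommRingCat.of k))) Z.1 ≫ ρ) ∣_ W) = q ∣_ W := by
      rw [← cancel_mono W.ι, Category.assoc, morphismRestrict_ι, morphismRestrict_ι, ← Category.assoc, hθ]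
      exact hzW
    have h2 : IsFinite (q ∣_ W) := inferInstance
    have hpsep : IsSeparated (TautSh.famToH (X ↘ Spec (CommRingCat.of k))
        (CategoryTheory.Over.mk (Hs ↘ Spec (CommRingCat.of k))) Z.1) := inferInstance
    have h3 : IsSeparated ((TautSh.famToH (X ↘ Spec (CommRingCat.of k))
        (CategoryTheory.Over.mk (Hs ↘ Spec (CommRingCat.of k))) Z.1 ≫ ρ) ∣_ W) := inferInstance
    have h4 : IsFinite θ := by
      have : IsFinite (θ ≫ ((TautSh.famToH (X ↘ Spec (CommRingCat.of k))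
        (CategoryTheory.Over.mk (Hs ↘ Spec (CommRingCat.of k))) Z.1 ≫ ρ) ∣_ W)) := by rw [h1]; exact h2
      exact IsFinite.of_comp θ ((TautSh.famToH (X ↘ Spec (CommRingCat.of k))
        (CategoryTheory.Over.mk (Hs ↘ Spec (CommRingCat.of k))) Z.1 ≫ ρ) ∣_ W)
    have h5 : Mono θ := by
      have : Mono (θ ≫ ((TautSh.famToH (X ↘ Spec (CommRingCat.of k))
        (CategoryTheory.Over.mk (Hs ↘ Spec (CommRingCat.of k))) Z.1 ≫ ρ) ⁻¹ᵁ W).ι) := by rw [hθ]; exact hmono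
      exact mono_of_mono θ ((TautSh.famToH (X ↘ Spec (CommRingCat.of k))
        (CategoryTheory.Over.mk (Hs ↘ Spec (CommRingCat.of k))) Z.1 ≫ ρ) ⁻¹ᵁ W).ι
    have h6 : IsClosedImmersion θ := (IsClosedImmersion.iff_isFinite_and_mono θ).2 ⟨h4, h5⟩
    have h7 : Surjective θ := by
      refine ⟨fun x => ?_⟩
      obtain ⟨t, ht⟩ := hsub (show x.1 ∈ _ from x.2)
      refine ⟨t, ?_⟩
      apply Subtype.ext
      have h8 : (θ ≫ ((TautSh.famToH (X ↘ Spec (CommRingCat.of k))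
        (CategoryTheory.Over.mk (Hs ↘ Spec (CommRingCat.of k))) Z.1 ≫ ρ) ⁻¹ᵁ W).ι) t = x.1 := by rw [hθ]; exact ht
      exact h8
    exact isIso_of_isClosedImmersion_of_surjective θ
  refine ⟨θ, hiso, ?_, ?_, ⟨σ, hσ, ?_⟩, hfin, ?_⟩
  · rw [← Category.assoc, hθ]
    exact hq 0
  · rw [← Category.assoc, hθ]
    exact hzW
  · rw [hθH]
    exact s1
  · rw [hθH]
    exact hr

include hdim hHl hU hY hρ hW in
theorem isIntegral_fam : IsIntegral (TautSh.fam (X ↘ Spec (CommRingCat.of k))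
      (CategoryTheory.Over.mk (Hs ↘ Spec (CommRingCat.of k))) Z.1) :=
  (main_all k X q gY hY W hW hdim Hl hHl Hs Z hU ρ hρ).1

include hdim hHl hU hY hρ hW in
/-- Over the complement `W` of the diagonal, the universal family is `X² - Δ`. -/
theorem main :
    ∃ θ : ((q ⁻¹ᵁ W : (SymProd.fibPow (X ↘ Spec (CommRingCat.of k)) 2).Opens) : Scheme.{u}) ⟶
      (((TautSh.famToH (X ↘ Spec (CommRingCat.of k)) (CategoryTheory.Over.mk (Hs ↘ Spec (CommRingCat.of k))) Z.1 ≫ ρ)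
        ⁻¹ᵁ W : (TautSh.fam (X ↘ Spec (CommRingCat.of k))
          (CategoryTheory.Over.mk (Hs ↘ Spec (CommRingCat.of k))) Z.1).Opens) : Scheme.{u}),
    IsIso θ ∧
    θ ≫ ((TautSh.famToH (X ↘ Spec (CommRingCat.of k)) (CategoryTheory.Over.mk (Hs ↘ Spec (CommRingCat.of k))) Z.1 ≫ ρ)
        ⁻¹ᵁ W).ι ≫ TautSh.famToX (X ↘ Spec (CommRingCat.of k))
          (CategoryTheory.Over.mk (Hs ↘ Spec (CommRingCat.of k))) Z.1 =
      (q ⁻¹ᵁ W).ι ≫ pr (X ↘ Spec (CommRingCat.of k)) (0 : Fin 2) ∧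
    θ ≫ ((TautSh.famToH (X ↘ Spec (CommRingCat.of k)) (CategoryTheory.Over.mk (Hs ↘ Spec (CommRingCat.of k))) Z.1 ≫ ρ)
        ⁻¹ᵁ W).ι ≫ TautSh.famToH (X ↘ Spec (CommRingCat.of k))
          (CategoryTheory.Over.mk (Hs ↘ Spec (CommRingCat.of k))) Z.1 ≫ ρ = (q ⁻¹ᵁ W).ι ≫ q ∧
    (∃ σ : ((q ⁻¹ᵁ W : (SymProd.fibPow (X ↘ Spec (CommRingCat.of k)) 2).Opens) : Scheme.{u}) ⟶
        ((q ⁻¹ᵁ W : (SymProd.fibPow (X ↘ Spec (CommRingCat.of k)) 2).Opens) : Scheme.{u}),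
      σ ≫ (q ⁻¹ᵁ W).ι = (q ⁻¹ᵁ W).ι ≫ SymProd.permHom (X ↘ Spec (CommRingCat.of k)) 2 (Equiv.swap 0 1) ∧
      σ ≫ θ ≫ ((TautSh.famToH (X ↘ Spec (CommRingCat.of k))
          (CategoryTheory.Over.mk (Hs ↘ Spec (CommRingCat.of k))) Z.1 ≫ ρ) ⁻¹ᵁ W).ι ≫
          TautSh.famToH (X ↘ Spec (CommRingCat.of k)) (CategoryTheory.Over.mk (Hs ↘ Spec (CommRingCat.of k))) Z.1 =
        θ ≫ ((TautSh.famToH (X ↘ Spec (CommRingCat.of k))
          (CategoryTheory.Over.mk (Hs ↘ Spec (CommRingCat.of k))) Z.1 ≫ ρ) ⁻¹ᵁ W).ι ≫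
          TautSh.famToH (X ↘ Spec (CommRingCat.of k)) (CategoryTheory.Over.mk (Hs ↘ Spec (CommRingCat.of k))) Z.1) ∧
    IsFinite (ρ ∣_ W) := by
  obtain ⟨-, θ, h1, h2, h3, h4, h5, -⟩ := main_all k X q gY hY W hW hdim Hl hHl Hs Z hU ρ hρ
  exact ⟨θ, h1, h2, h3, h4, h5⟩

end K67.Cls
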