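import Groth.Agent.TautSh.K805.Pair2
import Groth.Agent.SymProd.K992.BigDiag

/-!
# The classifying map of the complement of the diagonal to the Hilbert scheme of two points (helper67)

* `eq_of_fst_eq` : a section of a double covering off the diagonal determines the other one.
* `exists_cls` : on an open `V ⊆ X ×_S X` off the diagonal the two projections define `g : V ⟶ H` and sections
  `z i : V ⟶ Z` of the universal family over `g`.
-/

set_option autoImplicit false
universe u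

open CategoryTheory CategoryTheory.Limits AlgebraicGeometry TopologicalSpace

namespace K67.Cls

open Groth.Agent Groth.Agent.Picfga.HilbPull Groth.Agent.Picfga.HilbTriple K805.Taut K992.FibPow K992.BigDiag

section Gen

variable {Z H : Scheme.{u}} (p : Z ⟶ H)

/-- Two sections which never agree are off the diagonal. -/
theorem lift_notMem {T : Scheme.{u}} (z : Fin 2 → (T ⟶ Z)) (h : z 0 ≫ p = z 1 ≫ p)
    (hne : ∀ {W : Scheme.{u}} (a : W ⟶ T), a ≫ z 0 = a ≫ z 1 → IsEmpty W) (t : T) :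
    pullback.lift (z 0) (z 1) h t ∉ Set.range (pullback.diagonal p) := by
  rintro ⟨y, hy⟩
  obtain ⟨w, -, -⟩ := Scheme.Pullback.exists_preimage_pullback (f := pullback.lift (z 0) (z 1) h)
    (g := pullback.diagonal p) t y hy.symm
  refine (hne (pullback.fst (pullback.lift (z 0) (z 1) h) (pullback.diagonal p)) ?_).false w
  have h1 := pullback.condition (f := pullback.lift (z 0) (z 1) h) (g := pullback.diagonal p)
  have h2 := congrArg (fun t => t ≫ pullback.fst p p) h1
  have h3 := congrArg (fun t => t ≫ pullback.snd p p) h1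
  simp only [Category.assoc, pullback.lift_fst, pullback.lift_snd, pullback.diagonal_fst, pullback.diagonal_snd,
    Category.comp_id] at h2 h3
  rw [h2, h3]

/-- One section determines the other one. -/
theorem eq_of_fst_eq (hp : Mor2.IsFinLocFreeOfDeg 2 p) {T : Scheme.{u}} (g : T ⟶ H) (z z' : Fin 2 → (T ⟶ Z))
    (hz : ∀ i, z i ≫ p = g) (hz' : ∀ i, z' i ≫ p = g)
    (hd : ∀ t : T, pullback.lift (z 0) (z 1) ((hz 0).trans (hz 1).symm) t ∉ Set.range (pullback.diagonal p))
    (hd' : ∀ t : T, pullback.lift (z' 0) (z' 1) ((hz' 0).trans (hz' 1).symm) t ∉ Set.range (pullback.diagonal p))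
    (h0 : z 0 = z' 0) : z 1 = z' 1 := by
  have hm := IsPullback.of_hasPullback p g
  obtain ⟨-, -, hiso⟩ := isIso_desc p hp g z hz hd hm
  obtain ⟨-, hdj', -⟩ := isIso_desc p hp g z' hz' hd' hm
  let j : Fin 2 → (T ⟶ pullback p g) := fun i => hm.lift (z i) (𝟙 T) (by rw [hz i, Category.id_comp])
  let j' : Fin 2 → (T ⟶ pullback p g) := fun i => hm.lift (z' i) (𝟙 T) (by rw [hz' i, Category.id_comp])
  have hj1 : ∀ i, j i ≫ pullback.fst p g = z i := fun i => hm.lift_fst _ _ _
  have hj2 : ∀ i, j i ≫ pullback.snd p g = 𝟙 T := fun i => hm.lift_snd _ _ _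
  have hj1' : ∀ i, j' i ≫ pullback.fst p g = z' i := fun i => hm.lift_fst _ _ _
  have hj2' : ∀ i, j' i ≫ pullback.snd p g = 𝟙 T := fun i => hm.lift_snd _ _ _
  have e0 : j 0 = j' 0 := by
    apply hm.hom_ext
    · rw [hj1, hj1', h0]
    · rw [hj2, hj2']
  have hiso : IsIso (coprod.desc (j 0) (j 1)) := hiso
  have hdj' : Disjoint (Set.range (j' 0)) (Set.range (j' 1)) := hdj'
  have hopen : IsOpenImmersion (j 1) := by
    have : IsOpenImmersion ((coprod.inr : T ⟶ T ⨿ T) ≫ coprod.desc (j 0) (j 1)) := inferInstance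
    rwa [coprod.inr_desc] at this
  have hr : Set.range (j' 1) ⊆ Set.range (j 1) := by
    rintro _ ⟨t, rfl⟩
    obtain ⟨v, hv⟩ := (coprod.desc (j 0) (j 1)).homeomorph.surjective (j' 1 t)
    have hv' : v ∈ Set.range (coprod.inl : T ⟶ T ⨿ T) ⊔ Set.range (coprod.inr : T ⟶ T ⨿ T) := by
      rw [(isCompl_range_inl_inr T T).sup_eq_top]
      trivial
    rcases hv' with ⟨a, rfl⟩ | ⟨a, rfl⟩
    · exfalso
      refine Set.disjoint_left.1 hdj' ⟨a, ?_⟩ ⟨t, rfl⟩
      rw [← e0, ← hv]
      change _ = (coprod.desc (j 0) (j 1)) ((coprod.inl : T ⟶ T ⨿ T) a)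
      rw [← Scheme.Hom.comp_apply, coprod.inl_desc]
    · refine ⟨a, ?_⟩
      rw [← hv]
      change _ = (coprod.desc (j 0) (j 1)) ((coprod.inr : T ⟶ T ⨿ T) a)
      rw [← Scheme.Hom.comp_apply, coprod.inr_desc]
  have h1 : IsOpenImmersion.lift (j 1) (j' 1) hr = 𝟙 T := by
    have h2 := congrArg (fun t => t ≫ pullback.snd p g) (IsOpenImmersion.lift_fac (j 1) (j' 1) hr)
    simp only [Category.assoc] at h2
    rwa [hj2, hj2', Category.comp_id] at h2
  have h2 := IsOpenImmersion.lift_fac (j 1) (j' 1) hr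
  rw [h1, Category.id_comp] at h2
  rw [← hj1, ← hj1', h2]

end Gen

section Univ

variable {X S : Scheme.{u}} (f : X ⟶ S) {H : Over S} (Z : HilbD.Obj f 2 H) (V : (SymProd.fibPow f 2).Opens)

/-- An open of the square as a scheme over the base. -/
noncomputable abbrev vs : Over S := Over.mk (V.ι ≫ base f 2)

/-- The projections. -/
noncomputable abbrev xs (i : Fin 2) : (vs f V).left ⟶ X := V.ι ≫ pr f i

theorem xs_comp (i : Fin 2) : xs f V i ≫ f = (vs f V).hom := by
  change (V.ι ≫ pr f i) ≫ f = V.ι ≫ base f 2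
  rw [Category.assoc, pr_comp]

variable (hV : ∀ x ∈ V, x ∉ bigDiag f 1)

include hV in
theorem isEmpty_of_eq {W : Scheme.{u}} (a : W ⟶ (vs f V).left) (h : a ≫ xs f V 0 = a ≫ xs f V 1) : IsEmpty W := by
  refine ⟨fun w => ?_⟩
  have h1 := mem_of_eq f (i := 0) (j := 1) (by decide) (a ≫ V.ι) (by
    rw [Category.assoc, Category.assoc]
    exact h) w
  exact hV _ (a w).2 h1

include hV in
theorem disjoint_graphs : Disjoint (Set.range (gr f (vs f V) (xs f V 0) (xs_comp f V 0)))
    (Set.range (gr f (vs f V) (xs f V 1) (xs_comp f V 1))) := by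
  rw [Set.disjoint_left]
  rintro _ ⟨a, rfl⟩ ⟨b, hb⟩
  obtain ⟨y, -, -⟩ := Scheme.Pullback.exists_preimage_pullback a b hb.symm
  have h1 := pullback.condition (f := gr f (vs f V) (xs f V 0) (xs_comp f V 0))
    (g := gr f (vs f V) (xs f V 1) (xs_comp f V 1))
  have h2 := congrArg (fun t => t ≫ PicF.XTproj f (vs f V)) h1
  have h3 := congrArg (fun t => t ≫ pullback.fst f (vs f V).hom) h1
  simp only [Category.assoc] at h2 h3
  rw [gr_snd, gr_snd, Category.comp_id, Category.comp_id] at h2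
  rw [pullback.lift_fst, pullback.lift_fst, ← h2] at h3
  exact (isEmpty_of_eq f V hV _ h3).false y

variable [IsSeparated f]

include hV in
theorem exists_cls (hU : HilbD.IsUniversal f 2 H Z) :
    ∃ (g : vs f V ⟶ H) (z : Fin 2 → ((vs f V).left ⟶ Z.1.subscheme)), (∀ i, z i ≫ pi f Z.1 = g.left) ∧
      (∀ i, z i ≫ qq f Z.1 = xs f V i) ∧
      HilbD.pull f g Z.1 = TautSh.graphsIdeal f 2 (vs f V) (xs f V) (xs_comp f V) := by
  obtain ⟨e, he⟩ := isFinLocFreeOfDeg_graphs f (vs f V) (xs f V) (xs_comp f V) (disjoint_graphs f V hV)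
  have hpi : pi f (TautSh.graphsIdeal f 2 (vs f V) (xs f V) (xs_comp f V)) =
      e.inv ≫ coprod.desc (𝟙 _) (𝟙 _) := by
    rw [Iso.eq_inv_comp, Picfga.HilbTriple.pi, ← Category.assoc, he]
    apply coprod.hom_ext
    · rw [coprod.inl_desc_assoc, gr_snd, coprod.inl_desc]
    · rw [coprod.inr_desc_assoc, gr_snd, coprod.inr_desc]
  have hdeg : Mor2.IsFinLocFreeOfDeg 2 (pi f (TautSh.graphsIdeal f 2 (vs f V) (xs f V) (xs_comp f V))) := by
    have h1 := K842.CoprodRank.isFinLocFreeOfDeg_coprodDesc (𝟙 (vs f V).left) (𝟙 (vs f V).left) rfl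
      (isFinLocFreeOfDeg_id _) (isFinLocFreeOfDeg_id _)
    rw [hpi]
    refine isFinLocFreeOfDeg_of_isPullback (fst := e.inv) (g := 𝟙 _) (IsPullback.of_horiz_isIso ⟨?_⟩) h1
    rw [Category.comp_id]
  obtain ⟨g, hg, -⟩ := hU (vs f V) ⟨_, hdeg⟩
  obtain ⟨m, hm, hmq⟩ := exists_isPullback_of_pull_eq f g Z.1 _ hg
  have hl : ∀ (c : (vs f V).left ⟶ (vs f V).left ⨿ (vs f V).left) (i : Fin 2),
      c ≫ coprod.desc (gr f (vs f V) (xs f V 0) (xs_comp f V 0)) (gr f (vs f V) (xs f V 1) (xs_comp f V 1)) =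
        gr f (vs f V) (xs f V i) (xs_comp f V i) →
      ((c ≫ e.hom ≫ m) ≫ pi f Z.1 = g.left ∧ (c ≫ e.hom ≫ m) ≫ qq f Z.1 = xs f V i) := by
    intro c i hc
    have h2 : (c ≫ e.hom) ≫ (TautSh.graphsIdeal f 2 (vs f V) (xs f V) (xs_comp f V)).subschemeι =
        gr f (vs f V) (xs f V i) (xs_comp f V i) := by
      rw [Category.assoc, he, hc]
    constructor
    · have h1 : (c ≫ e.hom) ≫ pi f (TautSh.graphsIdeal f 2 (vs f V) (xs f V) (xs_comp f V)) = 𝟙 _ := by
        rw [Picfga.HilbTriple.pi, ← Category.assoc, h2, gr_snd]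
      rw [Category.assoc, Category.assoc, hm.w, ← Category.assoc, ← Category.assoc, h1, Category.id_comp]
    · rw [Category.assoc, Category.assoc, hmq, ← Category.assoc, qq, ← Category.assoc, h2, pullback.lift_fst]
  refine ⟨g, ![coprod.inl ≫ e.hom ≫ m, coprod.inr ≫ e.hom ≫ m], ?_, ?_, hg⟩
  · intro i
    fin_cases i
    · exact (hl coprod.inl 0 (coprod.inl_desc _ _)).1
    · exact (hl coprod.inr 1 (coprod.inr_desc _ _)).1
  · intro i
    fin_cases i
    · exact (hl coprod.inl 0 (coprod.inl_desc _ _)).2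
    · exact (hl coprod.inr 1 (coprod.inr_desc _ _)).2

end Univ

end K67.Cls
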