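import Groth.Agent.TautSh.K67.ClsA
import Groth.Agent.TautSh.K639.SymFacts

/-!
# The classifying map of the complement of the diagonal: swap, monomorphism, exhaustion (helper67)
-/

set_option autoImplicit false
universe u

open CategoryTheory CategoryTheory.Limits AlgebraicGeometry TopologicalSpace

namespace K67.Cls

open Groth.Agent Groth.Agent.Picfga.HilbPull Groth.Agent.Picfga.HilbTriple K805.Taut K992.FibPow K992.BigDiag

variable {X S : Scheme.{u}} (f : X ⟶ S) {H : Over S} (Z : HilbD.Obj f 2 H) (V : (SymProd.fibPow f 2).Opens)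

/-- Morphisms to the total space of a family. -/
theorem fam_ext {T : Over S} (I : (PicF.XT f T).IdealSheafData) {A : Scheme.{u}} {a b : A ⟶ I.subscheme}
    (h1 : a ≫ Picfga.HilbTriple.pi f I = b ≫ Picfga.HilbTriple.pi f I) (h2 : a ≫ qq f I = b ≫ qq f I) : a = b := by
  rw [← cancel_mono I.subschemeι]
  apply pullback.hom_ext
  · rw [Category.assoc, Category.assoc]
    exact h2
  · rw [Category.assoc, Category.assoc]
    exact h1

variable (hV : ∀ x ∈ V, x ∉ bigDiag f 1) (g : vs f V ⟶ H)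
  (z : Fin 2 → ((vs f V).left ⟶ Z.1.subscheme)) (hz : ∀ i, z i ≫ Picfga.HilbTriple.pi f Z.1 = g.left)
  (hq : ∀ i, z i ≫ qq f Z.1 = xs f V i)

include hq hV in
/-- The two sections never agree. -/
theorem isEmpty_of_comp_eq {A : Scheme.{u}} (a : A ⟶ (vs f V).left) (h : a ≫ z 0 = a ≫ z 1) : IsEmpty A := by
  refine isEmpty_of_eq f V hV a ?_
  rw [← hq, ← hq, ← Category.assoc, h, Category.assoc]

include hq hV in
theorem notMem {A : Scheme.{u}} (a : A ⟶ (vs f V).left) (h : (a ≫ z 0) ≫ Picfga.HilbTriple.pi f Z.1 =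
    (a ≫ z 1) ≫ Picfga.HilbTriple.pi f Z.1) (t : A) :
    pullback.lift (a ≫ z 0) (a ≫ z 1) h t ∉ Set.range (pullback.diagonal (Picfga.HilbTriple.pi f Z.1)) :=
  lift_notMem (Picfga.HilbTriple.pi f Z.1) (fun i => a ≫ z i) h (fun {W} b hb =>
    isEmpty_of_comp_eq f Z V hV z hq (b ≫ a) ((Category.assoc _ _ _).trans (hb.trans (Category.assoc _ _ _).symm))) t

include hq hV hz in
theorem mono_z : Mono (z 0) := by
  refine ⟨fun {A} a b h => ?_⟩
  have hg : b ≫ g.left = a ≫ g.left := by rw [← hz 0, ← Category.assoc, ← h, Category.assoc]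
  have h1 : ∀ i, (a ≫ z i) ≫ Picfga.HilbTriple.pi f Z.1 = a ≫ g.left := fun i => by rw [Category.assoc, hz]
  have h2 : ∀ i, (b ≫ z i) ≫ Picfga.HilbTriple.pi f Z.1 = a ≫ g.left := fun i => by rw [Category.assoc, hz, hg]
  have h3 : a ≫ z 1 = b ≫ z 1 := eq_of_fst_eq (Picfga.HilbTriple.pi f Z.1) Z.2 (a ≫ g.left) (fun i => a ≫ z i)
    (fun i => b ≫ z i) h1 h2 (notMem f Z V hV z hq a _) (notMem f Z V hV z hq b _) h
  have h4 : ∀ i, a ≫ xs f V i = b ≫ xs f V i := by
    intro i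
    rw [← hq, ← Category.assoc, ← Category.assoc]
    fin_cases i
    · exact congrArg (· ≫ qq f Z.1) h
    · exact congrArg (· ≫ qq f Z.1) h3
  rw [← cancel_mono V.ι]
  refine hom_ext_pos f fun i => ?_
  rw [Category.assoc, Category.assoc]
  exact h4 i

variable (hU : HilbD.IsUniversal f 2 H Z)
  (hg : HilbD.pull f g Z.1 = TautSh.graphsIdeal f 2 (vs f V) (xs f V) (xs_comp f V))
  (σ : (vs f V).left ⟶ (vs f V).left) (hσ : σ ≫ V.ι = V.ι ≫ SymProd.permHom f 2 (Equiv.swap 0 1))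

include hσ in
theorem σ_xs : σ ≫ xs f V 0 = xs f V 1 ∧ σ ≫ xs f V 1 = xs f V 0 := by
  constructor
  · rw [← Category.assoc, hσ, Category.assoc, pr, SymProd.permHom_π]
    rfl
  · rw [← Category.assoc, hσ, Category.assoc, pr, SymProd.permHom_π]
    rfl

include hσ in
theorem σ_hom : σ ≫ (vs f V).hom = (vs f V).hom := by
  change σ ≫ V.ι ≫ base f 2 = V.ι ≫ base f 2
  rw [← Category.assoc, hσ, Category.assoc, base, SymProd.permHom_base]

theorem secGraph_congr {T : Over S} {x y : T.left ⟶ X} (h : x = y) (hx : x ≫ f = T.hom) (hy : y ≫ f = T.hom) :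
    HilbD.secGraph f T x hx = HilbD.secGraph f T y hy := by
  subst h
  rfl

include hz hq hU hg hσ hV in
theorem swap_cls [IsSeparated f] : σ ≫ g.left = g.left ∧ σ ≫ z 0 = z 1 ∧ σ ≫ z 1 = z 0 := by
  obtain ⟨hx0, hx1⟩ := σ_xs f V σ hσ
  let σ' : vs f V ⟶ vs f V := Over.homMk σ (σ_hom f V σ hσ)
  have h1 : ∀ i, (σ ≫ z i) ≫ Picfga.HilbTriple.pi f Z.1 = (σ' ≫ g).left := fun i => by
    rw [Category.assoc, hz]
    rfl
  have h2 : ∀ i, ((σ ≫ z i) ≫ qq f Z.1) ≫ f = (vs f V).hom := fun i => by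
    rw [Category.assoc σ, hq, Category.assoc, xs_comp, σ_hom f V σ hσ]
  obtain ⟨-, h4⟩ := pull_eq_graphs f Z (σ' ≫ g) (fun i => σ ≫ z i) h1 (notMem f Z V hV z hq σ _) h2
  have h5 : HilbD.pull f (σ' ≫ g) Z.1 = HilbD.pull f g Z.1 := by
    rw [h4, hg, graphsIdeal_two, graphsIdeal_two, inf_comm]
    congr 1
    · refine secGraph_congr f ?_ _ _
      rw [Category.assoc, hq, hx1]
    · refine secGraph_congr f ?_ _ _
      rw [Category.assoc, hq, hx0]
  have h6 : σ' ≫ g = g := hom_ext_of_isUniversal hU h5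
  have h7 : σ ≫ g.left = g.left := congrArg (fun m : vs f V ⟶ H => m.left) h6
  refine ⟨h7, fam_ext f Z.1 ?_ ?_, fam_ext f Z.1 ?_ ?_⟩
  · rw [Category.assoc, hz, hz, h7]
  · rw [Category.assoc, hq, hq, hx0]
  · rw [Category.assoc, hz, hz, h7]
  · rw [Category.assoc, hq, hq, hx1]

include hz hq hU hg hσ hV in
/-- `z 0` exhausts the preimage of the image of `g`. -/
theorem exists_z [IsSeparated f] (t : (vs f V).left) (ζ : Z.1.subscheme) (h : Picfga.HilbTriple.pi f Z.1 ζ = g.left t) :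
    ∃ a, z 0 a = ζ := by
  obtain ⟨-, h1, -⟩ := swap_cls f Z V hV g z hz hq hU hg σ hσ
  have hm := IsPullback.of_hasPullback (Picfga.HilbTriple.pi f Z.1) g.left
  have hd : ∀ t, pullback.lift (z 0) (z 1) ((hz 0).trans (hz 1).symm) t ∉
      Set.range (pullback.diagonal (Picfga.HilbTriple.pi f Z.1)) :=
    lift_notMem (Picfga.HilbTriple.pi f Z.1) z _ (fun {W} b hb => isEmpty_of_comp_eq f Z V hV z hq b hb)
  obtain ⟨-, -, hiso⟩ := isIso_desc (Picfga.HilbTriple.pi f Z.1) Z.2 g.left z hz hd hm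
  let j : Fin 2 → ((vs f V).left ⟶ pullback (Picfga.HilbTriple.pi f Z.1) g.left) := fun i =>
    hm.lift (z i) (𝟙 _) (by rw [hz i, Category.id_comp])
  have hj1 : ∀ i, j i ≫ pullback.fst (Picfga.HilbTriple.pi f Z.1) g.left = z i := fun i => hm.lift_fst _ _ _
  have hiso : IsIso (coprod.desc (j 0) (j 1)) := hiso
  obtain ⟨w, hw1, hw2⟩ := Scheme.Pullback.exists_preimage_pullback ζ t h
  obtain ⟨v, rfl⟩ := (coprod.desc (j 0) (j 1)).homeomorph.surjective w
  have hv' : v ∈ Set.range (coprod.inl : (vs f V).left ⟶ (vs f V).left ⨿ (vs f V).left) ⊔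
      Set.range (coprod.inr : (vs f V).left ⟶ (vs f V).left ⨿ (vs f V).left) := by
    rw [(isCompl_range_inl_inr (vs f V).left (vs f V).left).sup_eq_top]
    trivial
  rcases hv' with ⟨a, rfl⟩ | ⟨a, rfl⟩
  · refine ⟨a, ?_⟩
    rw [← hw1, ← hj1]
    change _ = pullback.fst (Picfga.HilbTriple.pi f Z.1) g.left ((coprod.desc (j 0) (j 1)) ((coprod.inl :
      (vs f V).left ⟶ (vs f V).left ⨿ (vs f V).left) a))
    rw [← Scheme.Hom.comp_apply, ← Scheme.Hom.comp_apply, coprod.inl_desc_assoc]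
  · refine ⟨σ a, ?_⟩
    rw [← Scheme.Hom.comp_apply, h1, ← hw1, ← hj1]
    change _ = pullback.fst (Picfga.HilbTriple.pi f Z.1) g.left ((coprod.desc (j 0) (j 1)) ((coprod.inr :
      (vs f V).left ⟶ (vs f V).left ⨿ (vs f V).left) a))
    rw [← Scheme.Hom.comp_apply, ← Scheme.Hom.comp_apply, coprod.inr_desc_assoc]

end K67.Cls
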